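import Groth.Agent.Lib.QFRefine.Scheme
import Groth.Agent.Lib.Unram.FinitePartNhd
import Mathlib.AlgebraicGeometry.Morphisms.Etale
import Mathlib.AlgebraicGeometry.Morphisms.Finite

/-!
# Fppf morphisms are refined by etale morphisms followed by finite flat ones
-/

universe u

open CategoryTheory CategoryTheory.Limits AlgebraicGeometry

namespace Groth.Agent.Lib.QFRefine.Etale

/-- Around every point of its image a flat morphism locally of finite presentation is refined by a
finite flat surjective morphism onto an etale neighbourhood with trivial residue field extension. -/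
theorem exists_etale_finite {W X : Scheme.{u}} (w : W ⟶ X) [Flat w] [LocallyOfFinitePresentation w]
    (p : W) :
    ∃ (U V : Scheme.{u}) (u : U ⟶ X) (v : V ⟶ U) (y : U) (r : V ⟶ W),
      AlgebraicGeometry.Etale u ∧ u.base y = w.base p ∧ IsIso (u.residueFieldMap y) ∧ IsFinite v ∧
      Flat v ∧ LocallyOfFinitePresentation v ∧ Surjective v ∧ r ≫ w = v ≫ u := by
  obtain ⟨A, hA, hpA, -⟩ :=
    exists_isAffineOpen_mem_and_subset (X := X) (U := ⊤) (x := w.base p) trivial
  obtain ⟨Z, hZ, i, z, h₁, h₂, h₃, h₄⟩ := Scheme.exists_qf (w ∣_ A) ⟨p, hpA⟩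
  have : IsAffine A.toScheme := hA
  let h : Z ⟶ A.toScheme := i ≫ w ∣_ A
  have : IsSeparated h := inferInstance
  have : QuasiCompact h := inferInstance
  obtain ⟨Y, g, y, hg, hgy, hiso, V, V', hVV', hfin, hmem⟩ :=
    Unram.FinitePartNhd.exists_finite_part h (h.base z) (h.finite_preimage_singleton _)
  let c : V.toScheme ⟶ Y := V.ι ≫ pullback.snd h g
  have : Flat h := h₁
  have : LocallyOfFinitePresentation h := h₂
  have : Flat c := inferInstance
  have : LocallyOfFinitePresentation c := inferInstance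
  let O : Y.Opens := ⟨Set.range c.base, c.isOpenMap.isOpen_range⟩
  obtain ⟨t, -, ht⟩ := AlgebraicGeometry.Scheme.Pullback.exists_preimage_pullback (f := h) (g := g)
    z y hgy.symm
  have hyO : y ∈ O := ⟨⟨t, hmem t ht⟩, ht⟩
  let v : V.toScheme ⟶ O.toScheme := IsOpenImmersion.lift O.ι c (by
    rw [Scheme.Opens.range_ι]; rfl)
  have hv : v ≫ O.ι = c := IsOpenImmersion.lift_fac _ _ _
  have hfinv : IsFinite v := by
    have : IsFinite (v ≫ O.ι) := hv ▸ hfin
    exact IsFinite.of_comp v O.ι
  have : Flat v := MorphismProperty.of_postcomp (W := @Flat) (W' := @IsOpenImmersion) v O.ι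
    inferInstance (hv ▸ inferInstance)
  have : LocallyOfFinitePresentation v :=
    MorphismProperty.of_postcomp (W := @LocallyOfFinitePresentation) (W' := @IsOpenImmersion) v O.ι
    inferInstance (hv ▸ inferInstance)
  have : Surjective v := ⟨fun o => by
    obtain ⟨a, ha⟩ := o.2
    refine ⟨a, O.ι.isOpenEmbedding.injective ?_⟩
    exact (congrArg (fun m => m.base a) hv).trans ha⟩
  refine ⟨O, V, O.ι ≫ g ≫ A.ι, v, ⟨y, hyO⟩, V.ι ≫ pullback.fst h g ≫ i ≫ (w ⁻¹ᵁ A).ι,
    inferInstance, ?_, ?_, hfinv, inferInstance, inferInstance, inferInstance, ?_⟩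
  · change A.ι.base (g.base y) = _
    rw [hgy]
    refine (congrArg A.ι.base h₄).trans ?_
    rw [← Scheme.Hom.comp_apply, morphismRestrict_ι]
    rfl
  · rw [Scheme.residueFieldMap_comp, Scheme.residueFieldMap_comp]
    have : IsIso (g.residueFieldMap (O.ι.base ⟨y, hyO⟩)) := hiso
    have h1 : IsIso (A.ι.residueFieldMap (g.base (O.ι.base ⟨y, hyO⟩))) := inferInstance
    have h2 : IsIso (O.ι.residueFieldMap ⟨y, hyO⟩) := inferInstance
    exact @IsIso.comp_isIso _ _ _ _ _ _ _ (@IsIso.comp_isIso _ _ _ _ _ _ _ h1 this) h2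
  · rw [← Category.assoc v, hv]
    simp only [c, h, Category.assoc, ← morphismRestrict_ι]
    have e := pullback.condition (f := h) (g := g) =≫ A.ι
    simp only [h, Category.assoc] at e
    rw [e]

end Groth.Agent.Lib.QFRefine.Etale
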