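import Groth.Agent.Lib.QFRefine.Ring
import Mathlib.AlgebraicGeometry.ZariskisMainTheorem
import Mathlib.AlgebraicGeometry.Morphisms.Flat
import Mathlib.AlgebraicGeometry.Morphisms.UniversallyOpen
import Mathlib.AlgebraicGeometry.Limits

/-!
# Quasi-finite flat quasi-sections of fppf morphisms
-/

universe u

open CategoryTheory CategoryTheory.Limits AlgebraicGeometry

namespace Groth.Agent.Lib.QFRefine.Scheme

theorem exists_qf_spec {A B : CommRingCat.{u}} (φ : A ⟶ B) (hflat : φ.hom.Flat)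
    (hfp : φ.hom.FinitePresentation) (y : ↥(Spec B)) :
    ∃ (Z : Scheme.{u}) (_ : IsAffine Z) (i : Z ⟶ Spec B) (z : Z), Flat (i ≫ Spec.map φ) ∧
      LocallyOfFinitePresentation (i ≫ Spec.map φ) ∧ LocallyQuasiFinite (i ≫ Spec.map φ) ∧
      (i ≫ Spec.map φ).base z = (Spec.map φ).base y := by
  algebraize [φ.hom]
  let p : Ideal A := y.asIdeal.comap (algebraMap A B)
  have : p.IsPrime := inferInstance
  have : Nontrivial (p.Fiber B) := PrimeSpectrum.nonempty_iff_nontrivial.1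
    ⟨PrimeSpectrum.primesOverOrderIsoFiber A B p ⟨y.asIdeal, y.2, ⟨rfl⟩⟩⟩
  obtain ⟨D, _, _, θ, hDfp, hDflat, hne, hart⟩ := Ring.exists_finite_fibre p (C := B)
  obtain ⟨q⟩ := PrimeSpectrum.nonempty_iff_nontrivial.2 hne
  obtain ⟨Q, rfl⟩ := (PrimeSpectrum.preimageHomeomorphFiber A D ⟨p, inferInstance⟩).surjective q
  have hopen : IsOpen ({Q} : Set _) := by
    rw [← (PrimeSpectrum.preimageHomeomorphFiber A D ⟨p, inferInstance⟩).isOpen_image,
      Set.image_singleton]
    exact isOpen_discrete _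
  obtain ⟨⟨Q, hQ⟩, hQp⟩ := Q
  let j : Spec (CommRingCat.of D) ⟶ Spec B := Spec.map (CommRingCat.ofHom θ.toRingHom)
  have hj : j ≫ Spec.map φ = Spec.map (CommRingCat.ofHom (algebraMap A D)) := by
    rw [← Spec.map_comp]
    exact congrArg Spec.map (CommRingCat.hom_ext θ.comp_algebraMap)
  have : Flat (j ≫ Spec.map φ) := by
    rw [hj, HasRingHomProperty.Spec_iff (P := @Flat)]
    exact RingHom.flat_algebraMap_iff.2 hDflat
  have : LocallyOfFinitePresentation (j ≫ Spec.map φ) := by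
    rw [hj, HasRingHomProperty.Spec_iff (P := @LocallyOfFinitePresentation)]
    exact RingHom.finitePresentation_algebraMap.2 hDfp
  have hqf : (j ≫ Spec.map φ).QuasiFiniteAt (⟨Q, hQ⟩ : PrimeSpectrum D) := by
    rw [Scheme.Hom.quasiFiniteAt_iff_isOpen_singleton_asFiber,
      ← ((j ≫ Spec.map φ).fiberHomeo _).isOpen_image, Set.image_singleton, Scheme.Hom.asFiber,
      Homeomorph.apply_symm_apply]
    have hpre : ((j ≫ Spec.map φ).base ⁻¹' {(j ≫ Spec.map φ).base ⟨Q, hQ⟩}) =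
        PrimeSpectrum.comap (algebraMap A D) ⁻¹' {⟨p, inferInstance⟩} := by
      ext w
      rw [hj]
      change PrimeSpectrum.comap (algebraMap A D) w = PrimeSpectrum.comap (algebraMap A D) ⟨Q, hQ⟩ ↔
        PrimeSpectrum.comap (algebraMap A D) w = _
      rw [show PrimeSpectrum.comap (algebraMap A D) ⟨Q, hQ⟩ = ⟨p, inferInstance⟩ from hQp]
    have h := hopen.preimage (f := fun w : ((j ≫ Spec.map φ).base ⁻¹' {(j ≫ Spec.map φ).base ⟨Q, hQ⟩}) =>
      (⟨w.1, hpre ▸ w.2⟩ : PrimeSpectrum.comap (algebraMap A D) ⁻¹' {⟨p, inferInstance⟩}))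
      (continuous_subtype_val.subtype_mk _)
    convert h using 1
    ext w
    simp only [Set.mem_singleton_iff, Set.mem_preimage, Subtype.ext_iff]
    rfl
  obtain ⟨W, hW, hQW, hWle⟩ := exists_isAffineOpen_mem_and_subset
    (X := Spec (CommRingCat.of D)) (U := (j ≫ Spec.map φ).quasiFiniteLocus) (x := ⟨Q, hQ⟩) hqf
  have : IsAffine W.toScheme := hW
  refine ⟨W, inferInstance, W.ι ≫ j, ⟨⟨Q, hQ⟩, hQW⟩, ?_, ?_, ?_, ?_⟩
  · rw [Category.assoc]; infer_instance
  · rw [Category.assoc]; infer_instance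
  · rw [Category.assoc, ← Scheme.Hom.quasiFiniteLocus_eq_top_iff, Scheme.Hom.quasiFiniteLocus_comp,
      eq_top_iff]
    exact fun w _ => hWle w.2
  · rw [Category.assoc, Scheme.Hom.comp_apply, hj]
    exact hQp

/-- A flat morphism locally of finite presentation has a quasi-finite flat affine quasi-section
through every point of its image; its image lands in a given affine open. -/
theorem exists_qf {X S : Scheme.{u}} (f : X ⟶ S) [Flat f] [LocallyOfFinitePresentation f] (x : X) :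
    ∃ (Z : Scheme.{u}) (_ : IsAffine Z) (i : Z ⟶ X) (z : Z), Flat (i ≫ f) ∧
      LocallyOfFinitePresentation (i ≫ f) ∧ LocallyQuasiFinite (i ≫ f) ∧
      (i ≫ f).base z = f.base x := by
  obtain ⟨U, hU, hxU, -⟩ :=
    exists_isAffineOpen_mem_and_subset (X := S) (U := ⊤) (x := f.base x) trivial
  obtain ⟨V, hV, hxV, hVU⟩ :=
    exists_isAffineOpen_mem_and_subset (X := X) (U := f ⁻¹ᵁ U) (x := x) hxU
  obtain ⟨Z, hZ, i, z, h₁, h₂, h₃, h₄⟩ := exists_qf_spec (f.appLE U V hVU)
    (HasRingHomProperty.appLE @Flat f inferInstance ⟨U, hU⟩ ⟨V, hV⟩ hVU)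
    (HasRingHomProperty.appLE @LocallyOfFinitePresentation f inferInstance ⟨U, hU⟩ ⟨V, hV⟩ hVU)
    (hV.primeIdealOf ⟨x, hxV⟩)
  have e : (i ≫ hV.fromSpec) ≫ f = (i ≫ Spec.map (f.appLE U V hVU)) ≫ hU.fromSpec := by
    rw [Category.assoc, Category.assoc, hU.SpecMap_appLE_fromSpec f hV hVU]
  refine ⟨Z, hZ, i ≫ hV.fromSpec, z, ?_, ?_, ?_, ?_⟩
  · rw [e]; infer_instance
  · rw [e]; infer_instance
  · rw [e]; infer_instance
  · rw [e, Scheme.Hom.comp_apply, h₄, ← Scheme.Hom.comp_apply, hU.SpecMap_appLE_fromSpec f hV hVU,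
      Scheme.Hom.comp_apply, hV.fromSpec_primeIdealOf]

/-- A locally quasi-finite refinement of an fppf cover by one morphism. -/
theorem exists_cover {X S : Scheme.{u}} (f : X ⟶ S) [Flat f] [LocallyOfFinitePresentation f]
    [Surjective f] :
    ∃ (S' : Scheme.{u}) (g : S' ⟶ S) (h : S' ⟶ X), h ≫ f = g ∧ Flat g ∧
      LocallyOfFinitePresentation g ∧ LocallyQuasiFinite g ∧ Surjective g ∧
      (CompactSpace S → IsAffine S') := by
  classical
  choose x hx using f.surjective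
  choose Z hZ i z hflat hfp hqf hz using fun s => exists_qf f (x s)
  obtain ⟨T, hcov, hfin⟩ : ∃ T : Set S, (∀ t, ∃ s ∈ T, t ∈ Set.range (i s ≫ f).base) ∧
      (CompactSpace S → T.Finite) := by
    by_cases hS : CompactSpace S
    · obtain ⟨T, hT⟩ := isCompact_univ.elim_finite_subcover (fun s => Set.range (i s ≫ f).base)
        (fun s => by
          have := hflat s
          have := hfp s
          exact (i s ≫ f).isOpenMap.isOpen_range)
        fun s _ => Set.mem_iUnion.2 ⟨s, z s, (hz s).trans (hx s)⟩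
      refine ⟨T, fun t => ?_, fun _ => T.finite_toSet⟩
      obtain ⟨s, hs, ht⟩ := Set.mem_iUnion₂.1 (hT (Set.mem_univ t))
      exact ⟨s, hs, ht⟩
    · exact ⟨Set.univ, fun t => ⟨t, trivial, z t, (hz t).trans (hx t)⟩, fun h => absurd h hS⟩
  let c : T → Scheme.{u} := fun s => Z s
  let h : ∐ c ⟶ X := Sigma.desc fun s => i s
  have hP : ∀ P : MorphismProperty Scheme.{u}, IsZariskiLocalAtSource P →
      (∀ s, P (i s ≫ f)) → P (h ≫ f) := fun P _ H => by
    refine IsZariskiLocalAtSource.of_openCover (sigmaOpenCover c) fun s => ?_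
    change P (Sigma.ι c s ≫ Sigma.desc _ ≫ f)
    rw [Sigma.ι_desc_assoc]
    exact H (Subtype.val (s : T))
  refine ⟨∐ c, h ≫ f, h, rfl, hP _ inferInstance hflat, hP _ inferInstance hfp,
    hP _ inferInstance hqf, ⟨fun t => ?_⟩, fun hS => ?_⟩
  · obtain ⟨s, hs, w, hw⟩ := hcov t
    refine ⟨(Sigma.ι c ⟨s, hs⟩).base w, ?_⟩
    rw [← Scheme.Hom.comp_apply, Sigma.ι_desc_assoc]
    exact hw
  · have : Finite T := (hfin hS).to_subtype
    have : ∀ s, IsAffine (c s) := fun s => hZ s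
    infer_instance

end Groth.Agent.Lib.QFRefine.Scheme
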