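import Groth.Agent.Lib.Flat55.Slicing
import Mathlib.RingTheory.QuasiFinite.Basic
import Mathlib.RingTheory.LocalRing.ResidueField.Fiber
import Mathlib.RingTheory.KrullDimension.NonZeroDivisors
import Mathlib.RingTheory.HopkinsLevitzki
import Mathlib.RingTheory.Ideal.AssociatedPrime.Finiteness
import Mathlib.RingTheory.Jacobson.Ring
import Mathlib.RingTheory.KrullDimension.Polynomial
import Mathlib.RingTheory.KrullDimension.Field
import Mathlib.RingTheory.RingHom.FinitePresentation

/-!
# Quasi-finite flat slices through a fibre of a flat algebra of finite presentation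
-/

universe u

open TensorProduct

namespace Groth.Agent.Lib.QFRefine.Ring

theorem isArtinianRing_of_finite_maximal {B : Type*} [CommRing B] [IsNoetherianRing B]
    [IsJacobsonRing B] {T : Set (Ideal B)} (hT : T.Finite)
    (h : ∀ m : Ideal B, m.IsMaximal → m ∈ T) : IsArtinianRing B := by
  rw [isArtinianRing_iff_krullDimLE_zero, Ring.krullDimLE_zero_iff]
  intro I hI
  have hfin : {J : Ideal B | I ≤ J ∧ J.IsMaximal}.Finite := hT.subset fun J hJ => h J hJ.2
  have hle : hfin.toFinset.inf id ≤ I := by
    rw [Finset.inf_id_eq_sInf, hfin.coe_toFinset]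
    exact (isJacobsonRing_iff.1 ‹_› I hI.isRadical).le
  obtain ⟨J, hJ, hJI⟩ := (Ideal.IsPrime.inf_le' hI).1 hle
  obtain ⟨hIJ, hmax⟩ := hfin.mem_toFinset.1 hJ
  exact (le_antisymm hJI hIJ) ▸ hmax

variable {R : Type u} [CommRing R] (p : Ideal R) [p.IsPrime]

/-- A nonzerodivisor of the fibre stays one in the local ring of the fibre. -/
theorem mem_nonZeroDivisors_local {C : Type u} [CommRing C] [Algebra R C] (P : Ideal C) [P.IsPrime]
    (hP : P.comap (algebraMap R C) = p)
    [Algebra (Localization.AtPrime p) (Localization.AtPrime P)]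
    [IsScalarTower R (Localization.AtPrime p) (Localization.AtPrime P)]
    (c : C) (hc : (1 ⊗ₜ[R] c : p.Fiber C) ∈ nonZeroDivisors (p.Fiber C)) :
    Ideal.Quotient.mk ((IsLocalRing.maximalIdeal (Localization.AtPrime p)).map
        (algebraMap (Localization.AtPrime p) (Localization.AtPrime P)))
        (algebraMap C (Localization.AtPrime P) c) ∈
      nonZeroDivisors (Localization.AtPrime P ⧸
        (IsLocalRing.maximalIdeal (Localization.AtPrime p)).map
          (algebraMap (Localization.AtPrime p) (Localization.AtPrime P))) := by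
  set R' := Localization.AtPrime p
  set C' := Localization.AtPrime P
  set J := (IsLocalRing.maximalIdeal R').map (algebraMap R' C') with hJdef
  have hJ : J = (p.map (algebraMap R C)).map (algebraMap C C') := by
    rw [hJdef, ← Localization.AtPrime.map_eq_maximalIdeal, Ideal.map_map, Ideal.map_map,
      ← IsScalarTower.algebraMap_eq, ← IsScalarTower.algebraMap_eq]
  have hzero : ∀ x ∈ p.map (algebraMap R C), (1 ⊗ₜ[R] x : p.Fiber C) = 0 := by
    intro x hx
    have hle : p.map (algebraMap R C) ≤ RingHom.ker
        (Algebra.TensorProduct.includeRight (R := R) (A := p.ResidueField) (B := C)).toRingHom := by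
      rw [Ideal.map_le_iff_le_comap]
      intro r hr
      change (1 ⊗ₜ[R] algebraMap R C r : p.Fiber C) = 0
      rw [Algebra.algebraMap_eq_smul_one, ← smul_tmul, ← Algebra.algebraMap_eq_smul_one,
        Ideal.algebraMap_residueField_eq_zero.2 hr, zero_tmul]
    exact hle hx
  let κ : p.ResidueField →ₐ[R] C' ⧸ J :=
    { Ideal.quotientMap J (algebraMap R' C') Ideal.le_comap_map with
      commutes' := fun r => by
        change Ideal.Quotient.mk J (algebraMap R' C' (algebraMap R R' r)) = _
        rw [← IsScalarTower.algebraMap_apply]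
        rfl }
  let θ : p.Fiber C →ₐ[R] C' ⧸ J := Algebra.TensorProduct.lift κ
    ((Ideal.Quotient.mkₐ R J).comp (IsScalarTower.toAlgHom R C C')) fun _ _ => .all _ _
  have hθ : ∀ x : C, θ (1 ⊗ₜ[R] x) = Ideal.Quotient.mk J (algebraMap C C' x) := fun x => by
    rw [Algebra.TensorProduct.lift_tmul, map_one, one_mul]
    rfl
  refine mem_nonZeroDivisors_iff_right.2 fun z hz => ?_
  obtain ⟨z, rfl⟩ := Ideal.Quotient.mk_surjective z
  rw [← map_mul, Ideal.Quotient.eq_zero_iff_mem] at hz
  obtain ⟨d, u, rfl⟩ := IsLocalization.exists_mk'_eq P.primeCompl z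
  have h1 : algebraMap C C' (d * c) ∈ J := by
    have := J.mul_mem_right (algebraMap C C' (u : C)) hz
    rwa [mul_right_comm, IsLocalization.mk'_spec, ← map_mul] at this
  rw [hJ, IsLocalization.algebraMap_mem_map_algebraMap_iff P.primeCompl C'] at h1
  obtain ⟨v, hv, hmem⟩ := h1
  have h2 : (1 ⊗ₜ[R] (v * d) : p.Fiber C) = 0 := by
    refine (mem_nonZeroDivisors_iff_right.1 hc) _ ?_
    rw [Algebra.TensorProduct.tmul_mul_tmul, one_mul, mul_assoc]
    exact hzero _ hmem
  have h3 := congrArg θ h2
  rw [hθ, map_zero, Ideal.Quotient.eq_zero_iff_mem] at h3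
  rw [Ideal.Quotient.eq_zero_iff_mem, IsLocalization.mk'_eq_mul_mk'_one]
  refine J.mul_mem_right _ ?_
  rw [map_mul] at h3
  exact (Ideal.unit_mul_mem_iff_mem J (IsLocalization.map_units C' ⟨v, hv⟩)).1 h3

/-- One slicing step. -/
theorem exists_step {C : Type u} [CommRing C] [Algebra R C] [Algebra.FinitePresentation R C]
    [Module.Flat R C] (h : ¬ IsArtinianRing (p.Fiber C)) :
    ∃ (D : Type u) (_ : CommRing D) (_ : Algebra R D) (_ : C →ₐ[R] D),
      Algebra.FinitePresentation R D ∧ Module.Flat R D ∧ Nontrivial (p.Fiber D) ∧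
      ringKrullDim (p.Fiber D) + 1 ≤ ringKrullDim (p.Fiber C) := by
  classical
  have : IsNoetherianRing (p.Fiber C) := Algebra.FiniteType.isNoetherianRing p.ResidueField _
  have : IsJacobsonRing (p.Fiber C) := isJacobsonRing_of_finiteType (A := p.ResidueField)
  have hfin := associatedPrimes.finite (p.Fiber C) (p.Fiber C)
  obtain ⟨m, hm, hmass⟩ : ∃ m : Ideal (p.Fiber C), m.IsMaximal ∧
      m ∉ associatedPrimes (p.Fiber C) (p.Fiber C) := by
    by_contra hcon
    push Not at hcon
    exact h (isArtinianRing_of_finite_maximal hfin hcon)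
  obtain ⟨b, hb, hbnzd⟩ : ∃ b ∈ m, b ∈ nonZeroDivisors (p.Fiber C) := by
    by_contra hcon
    push Not at hcon
    obtain ⟨P, hP, hmP⟩ := (m.subset_union_prime_finite hfin (f := id) 0 0 fun _ h _ _ => h.isPrime).1
      (biUnion_associatedPrimes_eq_compl_nonZeroDivisors (p.Fiber C) ▸ hcon)
    exact hmass (hm.eq_of_le hP.isPrime.ne_top hmP ▸ hP)
  obtain ⟨r, hr, c, hrc⟩ := Ideal.Fiber.exists_smul_eq_one_tmul _ b
  have hru : IsUnit (algebraMap R (p.Fiber C) r) := by
    rw [IsScalarTower.algebraMap_apply R p.ResidueField (p.Fiber C)]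
    exact (isUnit_iff_ne_zero.2 fun h0 => hr (Ideal.algebraMap_residueField_eq_zero.1 h0)).map _
  have hcnzd : (1 ⊗ₜ[R] c : p.Fiber C) ∈ nonZeroDivisors (p.Fiber C) := by
    rw [← hrc, Algebra.smul_def]
    exact mul_mem hru.mem_nonZeroDivisors hbnzd
  have : m.IsPrime := hm.isPrime
  let Q := (PrimeSpectrum.primesOverOrderIsoFiber R C p).symm ⟨m, this⟩
  let P : Ideal C := Q.1
  have : P.IsPrime := Q.2.1
  have : P.LiesOver p := Q.2.2
  have hcP : c ∈ P := by
    change (1 ⊗ₜ[R] c : p.Fiber C) ∈ m
    rw [← hrc, Algebra.smul_def]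
    exact m.mul_mem_left _ hb
  let := Localization.AtPrime.algebraOfLiesOver p P
  have : IsLocalHom (algebraMap (Localization.AtPrime p) (Localization.AtPrime P)) := inferInstance
  have : Module.Flat R (Localization.AtPrime P) := Module.Flat.trans R C _
  have : Module.Flat (Localization.AtPrime p) (Localization.AtPrime P) :=
    (Module.flat_iff_of_isLocalization (R := R) (Localization.AtPrime p) p.primeCompl
      (Localization.AtPrime P)).2 this
  obtain ⟨a, ha, hslice⟩ := Flat55.Slicing.exists_slice (R := R) (C := C)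
    (R' := Localization.AtPrime p) (C' := Localization.AtPrime P) p P
    (fun r => by rw [← IsScalarTower.algebraMap_apply, ← IsScalarTower.algebraMap_apply]) c hcP
    (mem_nonZeroDivisors_local p P (P.over_def p).symm c hcnzd)
  let Ca := Localization.Away a
  obtain ⟨-, hflat⟩ := hslice Ca
  let c' : Ca := algebraMap C Ca c
  let ψ : C →ₐ[R] Ca ⧸ Ideal.span {c'} :=
    (Ideal.Quotient.mkₐ R _).comp (IsScalarTower.toAlgHom R C Ca)
  refine ⟨Ca ⧸ Ideal.span {c'}, inferInstance, inferInstance, ψ, ?_, ?_, ?_, ?_⟩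
  · have : Algebra.FinitePresentation C Ca := IsLocalization.Away.finitePresentation a
    have : Algebra.FinitePresentation R Ca := Algebra.FinitePresentation.trans R C Ca
    exact Algebra.FinitePresentation.quotient (Submodule.fg_span_singleton c')
  · rw [← RingHom.flat_algebraMap_iff]
    exact hflat
  · have hd : Disjoint (Submonoid.powers a : Set C) P :=
      (Ideal.disjoint_powers_iff_notMem _ ‹P.IsPrime›.isRadical).2 ha
    let Pa : Ideal Ca := P.map (algebraMap C Ca)
    have hPa : Pa.IsPrime :=
      IsLocalization.isPrime_of_isPrime_disjoint (Submonoid.powers a) Ca P ‹_› hd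
    let q : Ideal (Ca ⧸ Ideal.span {c'}) := Pa.map (Ideal.Quotient.mk _)
    have hle : Ideal.span {c'} ≤ Pa := by
      rw [Ideal.span_singleton_le_iff_mem]
      exact Ideal.mem_map_of_mem _ hcP
    have hq : q.IsPrime := Ideal.map_isPrime_of_surjective Ideal.Quotient.mk_surjective
      (by rwa [Ideal.mk_ker])
    have hqc : q.comap (algebraMap R _) = p := by
      change q.comap ((Ideal.Quotient.mk _).comp ((algebraMap C Ca).comp (algebraMap R C))) = p
      rw [← Ideal.comap_comap, Ideal.comap_map_of_surjective _ Ideal.Quotient.mk_surjective,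
        ← RingHom.ker_eq_comap_bot, Ideal.mk_ker, sup_eq_left.2 hle, ← Ideal.comap_comap,
        show Pa.comap (algebraMap C Ca) = P from
          IsLocalization.under_map_of_isPrime_disjoint (Submonoid.powers a) Ca ‹P.IsPrime› hd]
      exact (P.over_def p).symm
    have : Nonempty (PrimeSpectrum (p.Fiber (Ca ⧸ Ideal.span {c'}))) :=
      ⟨PrimeSpectrum.primesOverOrderIsoFiber R _ p ⟨q, hq, ⟨hqc.symm⟩⟩⟩
    exact PrimeSpectrum.nonempty_iff_nontrivial.1 this
  · refine le_trans ?_ (ringKrullDim_quotient_succ_le_of_nonZeroDivisor hcnzd)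
    gcongr
    rw [ringKrullDim_quotient, ringKrullDim, Order.krullDim_eq_of_orderIso
      (PrimeSpectrum.primesOverOrderIsoFiber R (Ca ⧸ Ideal.span {c'}) p).symm]
    have hov : ∀ q : p.primesOver (Ca ⧸ Ideal.span {c'}),
        q.1.comap ψ.toRingHom ∈ p.primesOver C := fun q => by
      have := q.2.1
      refine ⟨inferInstance, ⟨?_⟩⟩
      change p = (q.1.comap ψ.toRingHom).comap (algebraMap R C)
      rw [Ideal.comap_comap]
      exact q.2.2.over.trans (congrArg (fun φ => q.1.comap φ) ψ.comp_algebraMap.symm)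
    refine Order.krullDim_le_of_strictMono
      (fun q => ⟨PrimeSpectrum.primesOverOrderIsoFiber R C p ⟨_, hov q⟩, ?_⟩) ?_
    · rw [PrimeSpectrum.mem_zeroLocus, SetLike.coe_subset_coe, Ideal.span_singleton_le_iff_mem]
      have e := congrArg Subtype.val
        ((PrimeSpectrum.primesOverOrderIsoFiber R C p).symm_apply_apply ⟨_, hov q⟩)
      refine (SetLike.ext_iff.1 e c).2 ?_
      change ψ c ∈ q.1
      have : ψ c = 0 := Ideal.Quotient.eq_zero_iff_mem.2 (Ideal.mem_span_singleton_self c')
      rw [this]
      exact Ideal.zero_mem _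
    · refine Monotone.strictMono_of_injective (fun q q' hle => ?_) fun q q' he => ?_
      · exact (PrimeSpectrum.primesOverOrderIsoFiber R C p).monotone (Ideal.comap_mono hle)
      · have e := congrArg Subtype.val ((PrimeSpectrum.primesOverOrderIsoFiber R C p).injective
          (congrArg Subtype.val he))
        have := q.2.1
        have := q'.2.1
        have e' : PrimeSpectrum.comap (algebraMap C Ca) (PrimeSpectrum.comap
            (Ideal.Quotient.mk (Ideal.span {c'})) ⟨q.1, inferInstance⟩) =
            PrimeSpectrum.comap (algebraMap C Ca) (PrimeSpectrum.comap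
            (Ideal.Quotient.mk (Ideal.span {c'})) ⟨q'.1, inferInstance⟩) := PrimeSpectrum.ext e
        exact Subtype.ext (congrArg PrimeSpectrum.asIdeal (PrimeSpectrum.comap_injective_of_surjective
          (Ideal.Quotient.mk (Ideal.span {c'})) Ideal.Quotient.mk_surjective
          (PrimeSpectrum.localization_comap_injective Ca (Submonoid.powers a) e')))

/-- A flat algebra of finite presentation maps to one with finite nonempty fibre. -/
theorem exists_finite_fibre {C : Type u} [CommRing C] [Algebra R C] [Algebra.FinitePresentation R C]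
    [Module.Flat R C] [Nontrivial (p.Fiber C)] :
    ∃ (D : Type u) (_ : CommRing D) (_ : Algebra R D) (_ : C →ₐ[R] D),
      Algebra.FinitePresentation R D ∧ Module.Flat R D ∧ Nontrivial (p.Fiber D) ∧
      IsArtinianRing (p.Fiber D) := by
  have : IsNoetherianRing (p.Fiber C) := Algebra.FiniteType.isNoetherianRing p.ResidueField _
  obtain ⟨n, hn⟩ : ∃ n : ℕ, ringKrullDim (p.Fiber C) ≤ n := by
    obtain ⟨m, f, hf⟩ :=
      Algebra.FiniteType.iff_quotient_mvPolynomial''.1 (inferInstance : Algebra.FiniteType p.ResidueField (p.Fiber C))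
    refine ⟨m, (ringKrullDim_le_of_surjective f.toRingHom hf).trans ?_⟩
    simp [MvPolynomial.ringKrullDim_of_isNoetherianRing, ringKrullDim_eq_zero_of_field]
  induction n using Nat.strong_induction_on generalizing C with
  | _ n ih =>
    by_cases h : IsArtinianRing (p.Fiber C)
    · exact ⟨C, inferInstance, inferInstance, AlgHom.id R C, inferInstance, inferInstance,
        inferInstance, h⟩
    obtain ⟨D, _, _, φ, _, _, hne, hle⟩ := exists_step p h
    have : IsNoetherianRing (p.Fiber D) := Algebra.FiniteType.isNoetherianRing p.ResidueField _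
    have h1 := hle.trans hn
    cases n with
    | zero =>
      exfalso
      refine h (isArtinianRing_iff_krullDimLE_zero.2 ?_)
      exact Ring.krullDimLE_iff.2 (by simpa using hn)
    | succ k =>
      have h2 : ringKrullDim (p.Fiber D) ≤ (k : ℕ) := by
        refine ENat.WithBot.add_le_add_one_right_iff.1 ?_
        exact_mod_cast h1
      obtain ⟨D', _, _, φ', hD'⟩ := ih k (Nat.lt_succ_self k) this h2
      exact ⟨D', inferInstance, inferInstance, φ'.comp φ, hD'⟩

end Groth.Agent.Lib.QFRefine.Ring
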